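import Cfsg.Agent.Helper28.F23Q1.Data

set_option autoImplicit false

namespace Cfsg.Agent.Helper28.F23Q1

theorem rel_48 : Cfsg.Agent.Helper28.ptChunk (Cfsg.Agent.Helper28.relPt T relL) 14080 256 48 = true := by decide +kernel

theorem rel_49 : Cfsg.Agent.Helper28.ptChunk (Cfsg.Agent.Helper28.relPt T relL) 14080 256 49 = true := by decide +kernel

theorem rel_50 : Cfsg.Agent.Helper28.ptChunk (Cfsg.Agent.Helper28.relPt T relL) 14080 256 50 = true := by decide +kernel

theorem rel_51 : Cfsg.Agent.Helper28.ptChunk (Cfsg.Agent.Helper28.relPt T relL) 14080 256 51 = true := by decide +kernel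

theorem rel_52 : Cfsg.Agent.Helper28.ptChunk (Cfsg.Agent.Helper28.relPt T relL) 14080 256 52 = true := by decide +kernel

theorem rel_53 : Cfsg.Agent.Helper28.ptChunk (Cfsg.Agent.Helper28.relPt T relL) 14080 256 53 = true := by decide +kernel

theorem rel_54 : Cfsg.Agent.Helper28.ptChunk (Cfsg.Agent.Helper28.relPt T relL) 14080 256 54 = true := by decide +kernel

end Cfsg.Agent.Helper28.F23Q1
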